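import Groth.Agent.Lib.Helper6.PolyPoinc.Setup

set_option linter.unusedSectionVars false
set_option linter.unusedVariables false
set_option linter.unusedSimpArgs false
set_option autoImplicit false
set_option linter.style.haveILetI false
set_option maxHeartbeats 400000

/-!
# From a global graded derivation on the exterior algebra to a degreewise de Rham family
-/

open exteriorPower

namespace Groth.Agent.Lib.Helper6.PolyPoinc

open Groth.Agent.Lib.Helper6.DeRhamQuot Groth.Agent.Lib.Helper6.DeRhamGen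
open Groth.Agent.Lib.Helper6.Poincare

universe v u

variable {R : Type v} {A M : Type u} [CommRing R] [CommRing A] [Algebra R A]
  [AddCommGroup M] [Module A M] [Module R M] [IsScalarTower R A M]
  (δ : Derivation R A M)
  (d : ExteriorAlgebra A M →ₗ[R] ExteriorAlgebra A M)
  (h0 : ∀ a : A, d (algebraMap A _ a) = ExteriorAlgebra.ι A (δ a))
  (hdeg : ∀ (p : ℕ) (ω : ExteriorAlgebra A M), ω ∈ ⋀[A]^p M → d ω ∈ ⋀[A]^(p + 1) M)
  (hder : ∀ (p : ℕ) (ω η : ExteriorAlgebra A M), ω ∈ ⋀[A]^p M →
    d (ω * η) = d ω * η + (-1) ^ p * ω * d η)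
  (hdd : ∀ ω, d (d ω) = 0)

/-- the degreewise family of a global degree-one operator -/
noncomputable def fam (p : ℕ) : ↥(⋀[A]^p M) →ₗ[R] ↥(⋀[A]^(p + 1) M) where
  toFun ω := ⟨d ω.1, hdeg p ω.1 ω.2⟩
  map_add' x y := Subtype.ext (by
    show d ((x + y : ↥(⋀[A]^p M)) : ExteriorAlgebra A M) = d x.1 + d y.1
    rw [Submodule.coe_add, map_add])
  map_smul' r x := Subtype.ext (by
    show d ((r • x : ↥(⋀[A]^p M)) : ExteriorAlgebra A M) = r • d x.1
    rw [Submodule.coe_smul_of_tower, map_smul])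

theorem coe_fam (p : ℕ) (ω : ↥(⋀[A]^p M)) :
    ((fam d hdeg p ω : ↥(⋀[A]^(p + 1) M)) : ExteriorAlgebra A M) = d ω.1 := rfl

include h0 hder hdd in
theorem d_ιMulti (p : ℕ) (m : Fin p → A) :
    d (ExteriorAlgebra.ιMulti A p (fun i => δ (m i))) = 0 := by
  induction p with
  | zero =>
    rw [ExteriorAlgebra.ιMulti_zero_apply]
    have : (1 : ExteriorAlgebra A M) = algebraMap A _ 1 := (map_one _).symm
    rw [this, h0, Derivation.map_one_eq_zero, map_zero]
  | succ p ih =>
    rw [ExteriorAlgebra.ιMulti_succ_apply]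
    have h1 : ExteriorAlgebra.ι A (δ (m 0)) ∈ ⋀[A]^1 M := by
      show _ ∈ LinearMap.range (ExteriorAlgebra.ι A : M →ₗ[A] ExteriorAlgebra A M) ^ 1
      rw [pow_one]
      exact LinearMap.mem_range_self _ _
    have h2 : d (ExteriorAlgebra.ι A (δ (m 0))) = 0 := by rw [← h0, hdd]
    rw [hder 1 _ _ h1, h2, zero_mul, zero_add]
    have := ih (fun i => m i.succ)
    rw [show (Matrix.vecTail fun i => δ (m i)) = fun i : Fin p => δ (m i.succ) from rfl, this,
      mul_zero]

include h0 hder hdd in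
theorem isDiff_fam : DeRham.IsDiff δ (fam d hdeg) := by
  constructor
  · intro p b₀ b
    apply Subtype.ext
    rw [coe_fam, coe_ιMulti_cons]
    unfold DeRham.gen
    rw [Submodule.coe_smul, ιMulti_apply_coe, Algebra.smul_def]
    have h1 : algebraMap A (ExteriorAlgebra A M) b₀ ∈ ⋀[A]^0 M := by
      show _ ∈ LinearMap.range (ExteriorAlgebra.ι A : M →ₗ[A] ExteriorAlgebra A M) ^ 0
      rw [pow_zero, Submodule.one_eq_range]
      exact ⟨b₀, by simp [Algebra.algebraMap_eq_smul_one]⟩
    rw [hder 0 _ _ h1, d_ιMulti δ d h0 hder hdd, mul_zero, add_zero, h0]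
  · intro p
    apply LinearMap.ext
    intro ω
    apply Subtype.ext
    show d (d ω.1) = 0
    exact hdd _

end Groth.Agent.Lib.Helper6.PolyPoinc
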