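import Groth.Agent.Lib.Helper6.PolyHtpy.Eigen
import Mathlib.Algebra.MvPolynomial.Derivation
import Mathlib.Data.Finsupp.Weight

set_option linter.unusedSectionVars false
set_option linter.unusedVariables false
set_option linter.unusedSimpArgs false
set_option autoImplicit false
set_option linter.style.haveILetI false
set_option maxHeartbeats 400000

/-!
# The polynomial ring `k[σ]`: Euler field, monomial generators, the Poincaré lemma for a
degreewise de Rham family
-/

open exteriorPower MvPolynomial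

namespace Groth.Agent.Lib.Helper6.PolyPoinc

open Groth.Agent.Lib.Helper6.DeRhamQuot Groth.Agent.Lib.Helper6.DeRhamGen
open Groth.Agent.Lib.Helper6.Poincare

universe u w

variable (k : Type u) [CommRing k] (σ : Type w)

/-- the Euler derivation `∑ xᵢ ∂/∂xᵢ` -/
noncomputable def Eu : Derivation k (MvPolynomial σ k) (MvPolynomial σ k) :=
  MvPolynomial.mkDerivation k (fun i => (X i : MvPolynomial σ k))

theorem Eu_monomial (s : σ →₀ ℕ) (r : k) :
    Eu k σ (monomial s r) = ((Finsupp.degree s : ℕ) : MvPolynomial σ k) * monomial s r := by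
  unfold Eu
  rw [mkDerivation_monomial]
  have h1 : ∀ i ∈ s.support, monomial (s - Finsupp.single i 1) ((s i : ℕ) : k) • (X i : MvPolynomial σ k)
      = monomial s ((s i : ℕ) : k) := by
    intro i hi
    have hle : Finsupp.single i 1 ≤ s := by
      rw [Finsupp.single_le_iff]
      have := Finsupp.mem_support_iff.1 hi
      omega
    rw [smul_eq_mul, X, monomial_mul, mul_one, tsub_add_cancel_of_le hle]
  rw [Finsupp.sum, Finset.sum_congr rfl h1, ← map_sum, ← C_eq_coe_nat, C_mul_monomial,
    smul_monomial, Finsupp.degree_apply]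
  congr 1
  push_cast
  rw [smul_eq_mul, mul_comm]

/-- the Euler form on `Ω[k[σ]/k]` -/
noncomputable def phi : Module.Dual (MvPolynomial σ k) (Ω[MvPolynomial σ k⁄k]) :=
  (Eu k σ).liftKaehlerDifferential

theorem phi_D (f : MvPolynomial σ k) :
    phi k σ (KaehlerDifferential.D k (MvPolynomial σ k) f) = Eu k σ f := by
  unfold phi
  rw [Derivation.liftKaehlerDifferential_comp_D]

/-- monomials -/
noncomputable def mono (c : (σ →₀ ℕ) × k) : MvPolynomial σ k := monomial c.1 c.2

theorem phi_D_mono (c : (σ →₀ ℕ) × k) :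
    phi k σ (KaehlerDifferential.D k (MvPolynomial σ k) (mono k σ c))
      = ((Finsupp.degree c.1 : ℕ) : MvPolynomial σ k) * mono k σ c := by
  rw [phi_D]
  exact Eu_monomial k σ c.1 c.2

/-- monomial generators -/
noncomputable def mgen (q : ℕ) (c : (σ →₀ ℕ) × k) (s : Fin q → (σ →₀ ℕ) × k) :
    ↥(⋀[MvPolynomial σ k]^q (Ω[MvPolynomial σ k⁄k])) :=
  mono k σ c • ιMulti (MvPolynomial σ k) q
    (fun j => KaehlerDifferential.D k (MvPolynomial σ k) (mono k σ (s j)))

/-- the weight of a monomial generator -/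
noncomputable def wt (q : ℕ) (c : (σ →₀ ℕ) × k) (s : Fin q → (σ →₀ ℕ) × k) : ℕ :=
  Finsupp.degree c.1 + ∑ j, Finsupp.degree (s j).1

variable (d : ∀ p : ℕ, ↥(⋀[MvPolynomial σ k]^p (Ω[MvPolynomial σ k⁄k])) →ₗ[k]
    ↥(⋀[MvPolynomial σ k]^(p + 1) (Ω[MvPolynomial σ k⁄k])))
  (hd : DeRham.IsDiff (KaehlerDifferential.D k (MvPolynomial σ k)) d)

include hd in
theorem lie_mgen (q : ℕ) (c : (σ →₀ ℕ) × k) (s : Fin q → (σ →₀ ℕ) × k) :
    lie d (phi k σ) q (mgen k σ q c s) = (wt k σ q c s) • mgen k σ q c s := by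
  unfold mgen
  rw [lie_weight (KaehlerDifferential.D k (MvPolynomial σ k))
    (KaehlerDifferential.span_range_derivation k (MvPolynomial σ k))
    d hd (phi k σ) (mono k σ) (fun c => Finsupp.degree c.1) (phi_D_mono k σ) q s (mono k σ c),
    phi_D_mono, ← add_mul, ← Nat.cast_add, mul_smul]
  rw [Nat.cast_smul_eq_nsmul]
  rfl

/-- every form is a sum of monomial generators -/
theorem mem_closure_mgen (q : ℕ) (ω : ↥(⋀[MvPolynomial σ k]^q (Ω[MvPolynomial σ k⁄k]))) :
    ω ∈ AddSubmonoid.closure (Set.range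
      (fun cs : ((σ →₀ ℕ) × k) × (Fin q → (σ →₀ ℕ) × k) => mgen k σ q cs.1 cs.2)) := by
  classical
  induction ω using kaehler_induction k (MvPolynomial σ k) q with
  | zero => exact AddSubmonoid.zero_mem _
  | add x y hx hy => exact AddSubmonoid.add_mem _ hx hy
  | gen b₀ b =>
    unfold DeRham.gen
    have h1 : ∀ i, KaehlerDifferential.D k (MvPolynomial σ k) (b i)
        = ∑ n ∈ (b i).support,
            KaehlerDifferential.D k (MvPolynomial σ k) (mono k σ (n, (b i).coeff n)) := by
      intro i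
      conv_lhs => rw [(b i).as_sum]
      rw [map_sum]
      rfl
    have h2 : (fun i => KaehlerDifferential.D k (MvPolynomial σ k) (b i))
        = fun i => ∑ n ∈ (b i).support,
            KaehlerDifferential.D k (MvPolynomial σ k) (mono k σ (n, (b i).coeff n)) :=
      funext h1
    rw [h2]
    show b₀ • (ιMulti (MvPolynomial σ k) q (M := Ω[MvPolynomial σ k⁄k])).toMultilinearMap (fun i =>
      ∑ n ∈ (b i).support,
        KaehlerDifferential.D k (MvPolynomial σ k) (mono k σ (n, (b i).coeff n))) ∈ _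
    rw [MultilinearMap.map_sum_finset]
    have hb₀ : b₀ = ∑ n ∈ b₀.support, mono k σ (n, b₀.coeff n) := b₀.as_sum
    rw [hb₀, Finset.sum_smul]
    refine AddSubmonoid.sum_mem _ fun n₀ _ => ?_
    rw [Finset.smul_sum]
    refine AddSubmonoid.sum_mem _ fun r _ => ?_
    exact AddSubmonoid.subset_closure ⟨((n₀, b₀.coeff n₀), fun i => (r i, (b i).coeff (r i))), rfl⟩

theorem mgen_eq_zero_of_wt (q : ℕ) (c : (σ →₀ ℕ) × k) (s : Fin (q + 1) → (σ →₀ ℕ) × k)
    (h : wt k σ (q + 1) c s = 0) : mgen k σ (q + 1) c s = 0 := by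
  unfold wt at h
  have h1 : ∑ j, Finsupp.degree (s j).1 = 0 := by omega
  have h2 : Finsupp.degree (s 0).1 = 0 := (Finset.sum_eq_zero_iff.1 h1) 0 (Finset.mem_univ _)
  have h3 : (s 0).1 = 0 := (Finsupp.degree_eq_zero_iff _).1 h2
  have h4 : KaehlerDifferential.D k (MvPolynomial σ k) (mono k σ (s 0)) = 0 := by
    unfold mono
    rw [h3, monomial_zero', ← algebraMap_eq, Derivation.map_algebraMap]
  unfold mgen
  rw [(ιMulti (MvPolynomial σ k) (q + 1)).map_coord_zero 0 h4, smul_zero]

include hd in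
/-- every form of positive degree is killed by some `Kop m` -/
theorem exists_Kop (q : ℕ) (ω : ↥(⋀[MvPolynomial σ k]^(q + 1) (Ω[MvPolynomial σ k⁄k]))) :
    ∃ m, Kop d (phi k σ) (q + 1) m ω = 0 := by
  have hmem := mem_closure_mgen k σ (q + 1) ω
  induction hmem using AddSubmonoid.closure_induction with
  | mem x hx =>
    obtain ⟨⟨c, s⟩, rfl⟩ := hx
    show ∃ m, Kop d (phi k σ) (q + 1) m (mgen k σ (q + 1) c s) = 0
    rcases Nat.eq_zero_or_pos (wt k σ (q + 1) c s) with h | h
    · exact ⟨0, by rw [mgen_eq_zero_of_wt k σ q c s h, map_zero]⟩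
    · exact ⟨wt k σ (q + 1) c s, Kop_eigen d (phi k σ) (q + 1) _ h _ (lie_mgen k σ d hd (q + 1) c s)⟩
  | zero => exact ⟨0, by simp⟩
  | add x y _ _ hx hy => exact Kop_add d (phi k σ) (q + 1) _ _ hx hy

include hd in
/-- the polynomial Poincaré lemma in positive degrees, for a degreewise family -/
theorem exact_family [Algebra ℚ k] (q : ℕ)
    (ω : ↥(⋀[MvPolynomial σ k]^(q + 1) (Ω[MvPolynomial σ k⁄k]))) (h : d (q + 1) ω = 0) :
    ω ∈ LinearMap.range (d q) := by
  obtain ⟨m, hm⟩ := exists_Kop k σ d hd q ω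
  exact exact_of_Kop (KaehlerDifferential.D k (MvPolynomial σ k))
    (KaehlerDifferential.span_range_derivation k (MvPolynomial σ k)) d hd (phi k σ) q m ω h hm

/-- a polynomial with vanishing differential over a `ℚ`-algebra... here: over a char-zero domain,
is constant -/
theorem const_of_D_eq_zero [IsDomain k] [CharZero k] (a : MvPolynomial σ k)
    (h : KaehlerDifferential.D k (MvPolynomial σ k) a = 0) : ∃ c : k, a = C c := by
  classical
  have hE : Eu k σ a = 0 := by rw [← phi_D, h, map_zero]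
  have hcoeff : ∀ (b : MvPolynomial σ k) (m : σ →₀ ℕ),
      coeff m (Eu k σ b) = ((Finsupp.degree m : ℕ) : k) * coeff m b := by
    intro b m
    induction b using MvPolynomial.induction_on' with
    | monomial s r =>
      rw [Eu_monomial, ← C_eq_coe_nat, C_mul_monomial, coeff_monomial, coeff_monomial]
      by_cases hsm : s = m
      · subst hsm
        simp
      · simp [hsm]
    | add p q hp hq => rw [map_add, coeff_add, coeff_add, hp, hq, mul_add]
  refine ⟨coeff 0 a, ?_⟩
  ext m
  rw [coeff_C]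
  by_cases hm : 0 = m
  · subst hm
    simp
  · rw [if_neg hm]
    have h1 := hcoeff a m
    rw [hE, coeff_zero] at h1
    have h2 : ((Finsupp.degree m : ℕ) : k) ≠ 0 := by
      rw [Nat.cast_ne_zero]
      intro h0
      exact hm ((Finsupp.degree_eq_zero_iff m).1 h0).symm
    rcases mul_eq_zero.1 h1.symm with h3 | h3
    · exact absurd h3 h2
    · exact h3

end Groth.Agent.Lib.Helper6.PolyPoinc
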